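import Mathlib.AlgebraicGeometry.Morphisms.Proper
import Mathlib.AlgebraicGeometry.Morphisms.Finite
import Mathlib.AlgebraicGeometry.Limits

/-!
A finite disjoint union of schemes proper over an affine scheme is proper.
-/

universe u

open CategoryTheory CategoryTheory.Limits AlgebraicGeometry

namespace Groth.Agent.CurveNF

variable {σ : Type u}

lemma exists_sigma_eq {X : σ → Scheme.{u}} (x : ↥(∐ X)) : ∃ i y, Sigma.ι X i y = x := by
  obtain ⟨⟨j, y⟩, rfl⟩ := (sigmaMk X).surjective x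
  exact ⟨j, y, (sigmaMk_mk X j y).symm⟩

lemma eq_of_sigma_eq {X : σ → Scheme.{u}} {i j : σ} {a : X i} {b : X j}
    (h : Sigma.ι X i a = Sigma.ι X j b) : i = j := by
  by_contra hij
  exact Set.disjoint_left.mp (TopologicalSpace.Opens.coe_disjoint.mpr
    (disjoint_opensRange_sigmaι X i j hij)) ⟨a, rfl⟩ ⟨b, h.symm⟩

lemma isPullback_sigmaMap {X X' : σ → Scheme.{u}} (f : ∀ i, X' i ⟶ X i) (i : σ) :
    IsPullback (f i) (Sigma.ι X' i) (Sigma.ι X i) (Limits.Sigma.map f) := by
  refine IsOpenImmersion.isPullback _ _ _ _ (by simp [Limits.Sigma.map]) ?_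
  have h : ∀ j y, Limits.Sigma.map f (Sigma.ι X' j y) = Sigma.ι X j (f j y) := fun j y => by
    rw [← Scheme.Hom.comp_apply, ← Scheme.Hom.comp_apply]; simp [Limits.Sigma.map]
  ext x
  obtain ⟨j, y, rfl⟩ := exists_sigma_eq x
  constructor
  · rintro ⟨z, hz⟩
    rw [h] at hz
    obtain rfl := eq_of_sigma_eq hz
    exact ⟨y, rfl⟩
  · rintro ⟨z, hz⟩
    obtain rfl := eq_of_sigma_eq hz
    show Limits.Sigma.map f _ ∈ Set.range _
    exact ⟨_, (h _ y).symm⟩

theorem isProper_sigmaDesc [Finite σ] {R : CommRingCat.{u}} {X : σ → Scheme.{u}} (q : ∀ i, X i ⟶ Spec R)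
    [∀ i, IsProper (q i)] : IsProper (Sigma.desc q) := by
  have h1 : IsProper (Limits.Sigma.map q) := by
    refine IsZariskiLocalAtTarget.of_openCover (P := @IsProper) (sigmaOpenCover fun _ : σ => Spec R) fun i => ?_
    show IsProper (pullback.snd (Limits.Sigma.map q) (Sigma.ι (fun _ : σ => Spec R) i))
    rw [← IsPullback.isoPullback_inv_snd (isPullback_sigmaMap q i).flip]
    infer_instance
  let d : R ⟶ CommRingCat.of (σ → R) := CommRingCat.ofHom (Pi.ringHom fun _ : σ => RingHom.id R)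
  haveI : IsFinite (Spec.map d) := by
    rw [IsFinite.SpecMap_iff]
    show (Pi.ringHom fun _ : σ => RingHom.id R).Finite
    letI : Algebra R (σ → R) := (Pi.ringHom fun _ : σ => RingHom.id R).toAlgebra
    show Module.Finite R (σ → R)
    exact Module.Finite.pi
  have h : Sigma.desc q = Limits.Sigma.map q ≫ sigmaSpec (fun _ : σ => R) ≫ Spec.map d := by
    refine Sigma.hom_ext _ _ fun i => ?_
    simp only [Sigma.ι_desc, Limits.Sigma.map, ι_colimMap_assoc, Discrete.natTrans_app, ι_sigmaSpec_assoc, ← Spec.map_comp]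
    rw [show d ≫ CommRingCat.ofHom (Pi.evalRingHom (fun _ : σ => (R : Type u)) i) = 𝟙 R from rfl]
    simp
  rw [h]
  infer_instance

end Groth.Agent.CurveNF
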