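import Groth.Agent.Lib.CurveNF.Basic
import Groth.Agent.Lib.ProjSpace.Basic
import Mathlib.RingTheory.LocalProperties.Reduced
import Mathlib.AlgebraicGeometry.Morphisms.Immersion

/-!
Proper models of finitely generated domains over a field and their normalizations.
-/

universe u

open CategoryTheory AlgebraicGeometry IsLocalRing

namespace Groth.Agent.CurveNF

variable (k : Type u) [Field k]

theorem stalkSpecializes_cancel {X : Scheme.{u}} {a b : X} (h : a ⤳ b) (h' : b ⤳ a) (v : X.presheaf.stalk a) :
    X.presheaf.stalkSpecializes h (X.presheaf.stalkSpecializes h' v) = v := by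
  exact (ConcreteCategory.congr_hom ((X.presheaf.stalkSpecializes_comp h h').trans (X.presheaf.stalkSpecializes_refl _)) v)

theorem isReduced_image {X Y : Scheme.{u}} (f : X ⟶ Y) [QuasiCompact f] [IsReduced X] : IsReduced f.image := by
  have hst : ∀ x : f.image, _root_.IsReduced (f.image.presheaf.stalk x) := by
    intro x
    obtain ⟨U, hU, hx, -⟩ := exists_isAffineOpen_mem_and_subset (U := (⊤ : Y.Opens)) (x := f.imageι x) trivial
    have hV : IsAffineOpen (f.imageι ⁻¹ᵁ U) := hU.preimage _
    haveI : _root_.IsReduced Γ(f.image, f.imageι ⁻¹ᵁ U) :=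
      isReduced_of_injective (f.toImage.app (f.imageι ⁻¹ᵁ U)).hom (f.toImage_app_injective ⟨U, hU⟩)
    letI := TopCat.Presheaf.algebra_section_stalk f.image.presheaf (⟨x, hx⟩ : f.imageι ⁻¹ᵁ U)
    haveI := hV.isLocalization_stalk ⟨x, hx⟩
    exact isReduced_localizationPreserves (hV.primeIdealOf ⟨x, hx⟩).asIdeal.primeCompl _ ‹_›
  exact isReduced_of_isReduced_stalk _

/-- A finitely generated domain has an integral proper model. -/
theorem exists_proper_compactification (A : Type u) [CommRing A] [IsDomain A] [Algebra k A]
    [Algebra.FiniteType k A] :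
    ∃ (Y : Scheme.{u}) (_ : IsIntegral Y) (q : Y ⟶ Spec (CommRingCat.of k))
      (j : Spec (CommRingCat.of A) ⟶ Y), IsProper q ∧ IsOpenImmersion j ∧
        j ≫ q = Spec.map (CommRingCat.ofHom (algebraMap k A)) := by
  obtain ⟨n, ψ, hψ⟩ := Algebra.FiniteType.iff_quotient_mvPolynomial''.1 ‹Algebra.FiniteType k A›
  let e : {j : Fin (n + 1) // j ≠ 0} ≃ Fin n := (finSuccAboveEquiv (0 : Fin (n + 1))).symm
  let ψ' : MvPolynomial {j : Fin (n + 1) // j ≠ 0} k →ₐ[k] A := ψ.comp (MvPolynomial.renameEquiv k e).toAlgHom
  have hψ' : Function.Surjective ψ' := hψ.comp (MvPolynomial.renameEquiv k e).surjective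
  haveI : IsClosedImmersion (Spec.map (CommRingCat.ofHom ψ'.toRingHom)) :=
    IsClosedImmersion.spec_of_surjective _ hψ'
  let i : Spec (CommRingCat.of A) ⟶ CohB1.ProjSpace n k :=
    Spec.map (CommRingCat.ofHom ψ'.toRingHom) ≫ ProjSpace.chart n k 0
  haveI : IsImmersion i := inferInstanceAs (IsImmersion (_ ≫ _))
  haveI : IsProper (CohB1.ProjSpace.toSpec n k) := ProjSpace.isProper_toSpec n k
  have hi : i ≫ CohB1.ProjSpace.toSpec n k = Spec.map (CommRingCat.ofHom (algebraMap k A)) := by
    simp only [i, Category.assoc, ProjSpace.chart_toSpec, ← Spec.map_comp, ← CommRingCat.ofHom_comp]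
    congr 2
    exact RingHom.ext fun c => ψ'.commutes c
  haveI : QuasiCompact i := by
    haveI : QuasiCompact (i ≫ CohB1.ProjSpace.toSpec n k) := by rw [hi]; infer_instance
    exact QuasiCompact.of_comp i (CohB1.ProjSpace.toSpec n k)
  haveI : IsOpenImmersion i.toImage := inferInstance
  haveI : IsReduced i.image := isReduced_image i
  haveI : IrreducibleSpace i.image := by
    rw [irreducibleSpace_def]
    convert! ((IrreducibleSpace.isIrreducible_univ (Spec (CommRingCat.of A))).image _
      i.toImage.continuous.continuousOn).closure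
    simpa using i.toImage.denseRange.closure_range.symm
  refine ⟨i.image, isIntegral_of_irreducibleSpace_of_isReduced _, i.imageι ≫ CohB1.ProjSpace.toSpec n k,
    i.toImage, inferInstance, inferInstance, ?_⟩
  rw [Scheme.Hom.toImage_imageι_assoc, hi]

/-- A finitely generated field extension has a normal proper model. -/
theorem exists_normal_proper_model (K : Type u) [Field K] [Algebra k K]
    (hfg : (⊤ : IntermediateField k K).FG) :
    ∃ (X : Scheme.{u}) (_ : IsIntegral X) (q : X ⟶ Spec (CommRingCat.of k)), IsProper q ∧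
      Pi1.IsNormalScheme X ∧
      ∃ e : X.presheaf.stalk (genericPoint X) ≃+* K, ∀ c : k,
        e (X.presheaf.germ ⊤ (genericPoint X) trivial
          (q.appTop ((Scheme.ΓSpecIso (CommRingCat.of k)).inv c))) = algebraMap k K c := by
  classical
  obtain ⟨s, hs⟩ := hfg
  let A := Algebra.adjoin k (s : Set K)
  haveI : Algebra.FiniteType k A := (Subalgebra.fg_iff_finiteType _).1 ⟨s, rfl⟩
  obtain ⟨Y, hY, q₀, j, hq, hj, hjq⟩ := exists_proper_compactification k A
  let g : Spec (CommRingCat.of K) ⟶ Y := Spec.map (CommRingCat.ofHom A.val.toRingHom) ≫ j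
  haveI : IsDominant (Spec.map (CommRingCat.ofHom A.val.toRingHom)) := by
    refine ⟨?_⟩
    show DenseRange (PrimeSpectrum.comap A.val.toRingHom)
    rw [PrimeSpectrum.denseRange_comap_iff_ker_le_nilRadical]
    rw [(RingHom.injective_iff_ker_eq_bot _).1 Subtype.val_injective]
    exact bot_le
  haveI : IsDominant j := ⟨(j.isOpenEmbedding.isOpen_range.dense (Set.range_nonempty _))⟩
  haveI : IsDominant g := inferInstanceAs (IsDominant (_ ≫ _))
  have hgξ : g (closedPoint K) = genericPoint Y := by
    refine IsGenericPoint.eq ?_ (genericPoint_spec _)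
    haveI := subsingleton_specField K
    have h := g.denseRange.closure_range
    rwa [show Set.range g = {g (closedPoint K)} from
      Set.ext fun z => ⟨by rintro ⟨w, rfl⟩; rw [Subsingleton.elim w (closedPoint K)]; rfl,
        fun hz => ⟨closedPoint K, hz.symm⟩⟩] at h
  let φ : Y.functionField →+* K :=
    (Y.presheaf.stalkSpecializes (specializes_of_eq hgξ) ≫ Scheme.stalkClosedPointTo g).hom
  have hg : g = Spec.map (CommRingCat.ofHom φ) ≫ Y.fromSpecStalk (genericPoint Y) := by
    show g = Spec.map (Y.presheaf.stalkSpecializes (specializes_of_eq hgξ) ≫ Scheme.stalkClosedPointTo g) ≫ _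
    rw [Spec.map_comp, Category.assoc, Scheme.SpecMap_stalkSpecializes_fromSpecStalk]
    exact (Scheme.Spec_stalkClosedPointTo_fromSpecStalk g).symm
  have hsurj : Function.Surjective φ := by
    rw [← RingHom.range_eq_top, eq_top_iff]
    intro x _
    have hle : (Subalgebra.toSubsemiring A).carrier ⊆ Set.range φ := by
      intro a ha
      have h1 : Function.Surjective (j.stalkMap (Spec.map (CommRingCat.ofHom A.val.toRingHom) (closedPoint K))) :=
        (ConcreteCategory.bijective_of_isIso _).2
      obtain ⟨v, hv⟩ := h1 ((Spec (CommRingCat.of A)).presheaf.germ ⊤ _ trivial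
        ((Scheme.ΓSpecIso (CommRingCat.of A)).inv ⟨a, ha⟩))
      have hv' : (Scheme.stalkClosedPointTo g).hom v = a := by
        rw [show Scheme.stalkClosedPointTo g = _ from Scheme.stalkClosedPointTo_comp _ _]
        show (Scheme.stalkClosedPointTo _).hom (j.stalkMap _ v) = a
        rw [hv]
        exact (ConcreteCategory.congr_hom (Scheme.germ_stalkClosedPointTo_Spec (CommRingCat.ofHom A.val.toRingHom))
          _).trans (by simp)
      refine ⟨Y.presheaf.stalkSpecializes (specializes_of_eq hgξ.symm) v, ?_⟩
      show (Scheme.stalkClosedPointTo g).hom (Y.presheaf.stalkSpecializes _ (Y.presheaf.stalkSpecializes _ v)) = a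
      exact (congrArg _ (stalkSpecializes_cancel _ _ _)).trans hv'
    let F : IntermediateField k K :=
      { φ.fieldRange with
        algebraMap_mem' := fun c => hle (A.algebraMap_mem c) }
    have hF : IntermediateField.adjoin k (s : Set K) ≤ F :=
      IntermediateField.adjoin_le_iff.2 fun y hy => hle (Algebra.subset_adjoin hy)
    rw [hs] at hF
    exact hF (IntermediateField.mem_top (x := x))
  haveI : QuasiCompact g := inferInstance
  haveI : QuasiSeparated g := inferInstance
  haveI := isFinite_fromNormalization hg q₀ (RingHom.Finite.of_surjective _ hsurj)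
  obtain ⟨hI, hN⟩ := isIntegral_and_normal hg
  let ε : g.normalization.presheaf.stalk (genericPoint g.normalization) →+* K :=
    (g.normalization.presheaf.stalkSpecializes (specializes_of_eq (toNormalization_closedPoint (g := g))) ≫
      Scheme.stalkClosedPointTo g.toNormalization).hom
  have hε : Function.Bijective ε := by
    refine ⟨RingHom.injective _, fun y => ?_⟩
    have hy : y ∈ Set.range (Scheme.stalkClosedPointTo g.toNormalization).hom := by
      rw [range_stalkClosedPointTo hg]
      obtain ⟨z, rfl⟩ := hsurj y
      exact RingHom.isIntegralElem_map φ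
    obtain ⟨v, rfl⟩ := hy
    refine ⟨g.normalization.presheaf.stalkSpecializes (specializes_of_eq (toNormalization_closedPoint (g := g)).symm) v, ?_⟩
    show (Scheme.stalkClosedPointTo g.toNormalization).hom
      (g.normalization.presheaf.stalkSpecializes _ (g.normalization.presheaf.stalkSpecializes _ v)) = _
    exact congrArg _ (stalkSpecializes_cancel _ _ _)
  refine ⟨g.normalization, hI, g.fromNormalization ≫ q₀, inferInstance, hN, RingEquiv.ofBijective ε hε, fun c => ?_⟩
  show (Scheme.stalkClosedPointTo g.toNormalization).hom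
    (g.normalization.presheaf.stalkSpecializes _ (g.normalization.presheaf.germ ⊤ _ trivial _)) = _
  rw [TopCat.Presheaf.germ_stalkSpecializes_apply]
  have h : (g.fromNormalization ≫ q₀).appTop ≫ g.normalization.presheaf.germ ⊤ _ trivial ≫
      Scheme.stalkClosedPointTo g.toNormalization =
      (Scheme.ΓSpecIso (CommRingCat.of k)).hom ≫ CommRingCat.ofHom (algebraMap k K) := by
    rw [Scheme.germ_stalkClosedPointTo, ← Category.assoc, ← Scheme.ΓSpecIso_naturality]
    have e1 : g.toNormalization ≫ g.fromNormalization ≫ q₀ = Spec.map (CommRingCat.ofHom (algebraMap k K)) := by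
      rw [Scheme.Hom.toNormalization_fromNormalization_assoc]
      simp only [g, Category.assoc, hjq, ← Spec.map_comp, ← CommRingCat.ofHom_comp]
      rfl
    rw [← e1]
    simp
    congr 1
    rw [← Category.assoc]
    congr 1
    exact ((Scheme.Hom.comp_app g.toNormalization g.fromNormalization ⊤).symm.trans
      (Scheme.Hom.congr_app g.toNormalization_fromNormalization ⊤)).trans (by simp)
  have := ConcreteCategory.congr_hom h ((Scheme.ΓSpecIso (CommRingCat.of k)).inv c)
  refine this.trans ?_
  simp

end Groth.Agent.CurveNF
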