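import Groth.Agent.Lib.CurveNF.Dim
import Groth.Agent.Lib.VarDim.Irred

/-!
Irreducible curves: proper closed subsets are finite; fibres of dominant morphisms are finite.
-/

universe u

namespace Groth.Agent.CurveNF

open CategoryTheory AlgebraicGeometry

variable {k : Type u} [Field k] {X Y : Scheme.{u}} (p : X ⟶ Spec (CommRingCat.of k)) [LocallyOfFiniteType p]
  [IrreducibleSpace X]

theorem maximal_genericPoint (x : X) (h : x ⤳ genericPoint X) : x = genericPoint X :=
  (h.antisymm (genericPoint_specializes x)).eq

include p in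
theorem sdim_genericPoint (hX : ∀ x : X, IsClosed ({x} : Set X) → ringKrullDim (X.presheaf.stalk x) = 1) :
    VarDim.sdim p (genericPoint X) = 1 :=
  sdim_eq_one_of_maximal p hX maximal_genericPoint

include p in
theorem isClosed_singleton_of_ne (hX : ∀ x : X, IsClosed ({x} : Set X) → ringKrullDim (X.presheaf.stalk x) = 1)
    {x : X} (hx : x ≠ genericPoint X) : IsClosed ({x} : Set X) := by
  rw [← VarDim.sdim_eq_zero_iff_isClosed p]
  have := VarDim.sdim_lt_of_specializes p (genericPoint_specializes x) hx.symm
  rw [sdim_genericPoint p hX] at this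
  omega

include p in
theorem finite_of_isClosed [QuasiCompact p]
    (hX : ∀ x : X, IsClosed ({x} : Set X) → ringKrullDim (X.presheaf.stalk x) = 1)
    {Z : Set X} (hZ : IsClosed Z) (hξ : genericPoint X ∉ Z) : Z.Finite := by
  haveI := VarDim.noetherianSpace_of_finiteType p
  obtain ⟨G, hG⟩ := VarDim.exists_finite_generic (X := X) hZ
  refine G.finite_toSet.subset fun x hx => ?_
  obtain ⟨g, hg, hgx⟩ := (hG x).1 hx
  have hgZ : g ∈ Z := (hG g).2 ⟨g, hg, specializes_rfl⟩
  have hne : g ≠ genericPoint X := fun e => hξ (e ▸ hgZ)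
  rwa [show x = g from hgx.mem_closed (isClosed_singleton_of_ne p hX hne) rfl]

variable [IrreducibleSpace Y] (q : Y ⟶ Spec (CommRingCat.of k)) [LocallyOfFiniteType q] [QuasiCompact p]

include p q in
theorem finite_preimage (hX : ∀ x : X, IsClosed ({x} : Set X) → ringKrullDim (X.presheaf.stalk x) = 1)
    (hY : ∀ x : Y, IsClosed ({x} : Set Y) → ringKrullDim (Y.presheaf.stalk x) = 1)
    (f : X ⟶ Y) [LocallyOfFiniteType f] (hf : f (genericPoint X) = genericPoint Y) (y : Y) :
    (f ⁻¹' {y}).Finite := by
  rcases eq_or_ne y (genericPoint Y) with rfl | hy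
  · refine (Set.finite_singleton (genericPoint X)).subset fun x hx => ?_
    by_contra hne
    have hc := VarDim.isClosed_singleton_image q f (isClosed_singleton_of_ne p hX hne)
    rw [Set.mem_preimage, Set.mem_singleton_iff] at hx
    rw [hx, ← VarDim.sdim_eq_zero_iff_isClosed q, sdim_genericPoint q hY] at hc
    exact one_ne_zero hc
  · refine finite_of_isClosed p hX ((isClosed_singleton_of_ne q hY hy).preimage f.continuous) fun h => hy ?_
    rw [← hf]
    exact (Set.mem_singleton_iff.1 h).symm

include p q in
theorem genericPoint_map_of_finite_preimage (hX : ∀ x : X, IsClosed ({x} : Set X) → ringKrullDim (X.presheaf.stalk x) = 1)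
    (hY : ∀ x : Y, IsClosed ({x} : Set Y) → ringKrullDim (Y.presheaf.stalk x) = 1)
    (f : X ⟶ Y) (hf : ∀ y : Y, (f ⁻¹' {y}).Finite) : f (genericPoint X) = genericPoint Y := by
  by_contra hne
  have hc := isClosed_singleton_of_ne q hY hne
  have huniv : f ⁻¹' {f (genericPoint X)} = Set.univ := by
    refine Set.eq_univ_of_univ_subset ?_
    rw [← (genericPoint_spec X).def]
    exact closure_minimal (Set.singleton_subset_iff.2 rfl) (hc.preimage f.continuous)
  have hfin : (Set.univ : Set X).Finite := huniv ▸ hf _
  haveI : JacobsonSpace X := LocallyOfFiniteType.jacobsonSpace p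
  have hcl : IsClosed (closedPoints X) := by
    have h : IsClosed (⋃ x ∈ closedPoints X, ({x} : Set X)) :=
      (hfin.subset (Set.subset_univ _)).isClosed_biUnion fun x hx => hx
    rwa [Set.biUnion_of_singleton] at h
  have h1 : genericPoint X ∈ closedPoints X := by
    rw [← hcl.closure_eq, closure_closedPoints]; trivial
  have h2 := (VarDim.sdim_eq_zero_iff_isClosed p _).2 h1
  rw [sdim_genericPoint p hX] at h2
  exact one_ne_zero h2

end Groth.Agent.CurveNF
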