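import Groth.Agent.Lib.CurveNF.Compact
import Groth.Agent.Lib.CurveNF.Fibres
import Groth.Agent.Lib.DVRVal.Curve
import Groth.Agent.S2347
import Groth.Agent.Lib.VarDim.Normal
import Mathlib.AlgebraicGeometry.ZariskisMainTheorem

/-!
Completions of normal curves.
-/

universe u

open CategoryTheory AlgebraicGeometry IsLocalRing

namespace Groth.Agent.CurveNF

/-- Over an affine open with integrally closed sections the normalization is an isomorphism. -/
theorem isIso_morphismRestrict_fromNormalization {Y : Scheme.{u}} [IsIntegral Y]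
    [QuasiCompact (Y.fromSpecStalk (genericPoint Y))] [QuasiSeparated (Y.fromSpecStalk (genericPoint Y))]
    (V : Y.Opens) (hV : IsAffineOpen V) (hne : (V : Set Y).Nonempty) [IsIntegrallyClosed Γ(Y, V)] :
    IsIso ((Y.fromSpecStalk (genericPoint Y)).fromNormalization ∣_ V) := by
  have hg : Y.fromSpecStalk (genericPoint Y) =
      Spec.map (CommRingCat.ofHom (RingHom.id Y.functionField)) ≫ Y.fromSpecStalk (genericPoint Y) := by
    erw [Spec.map_id, Category.id_comp]
  let f := (Y.fromSpecStalk (genericPoint Y)).fromNormalization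
  haveI : Nonempty V := ⟨⟨_, generic_mem hne⟩⟩
  haveI : IsDomain Γ(Y, V) := IsIntegral.component_integral _
  haveI := functionField_isFractionRing_of_isAffineOpen Y V hV
  have hinj := toK_injective hg hne hV
  have hbij : Function.Bijective (f.app V) := by
    refine ⟨fun a b h => IsFractionRing.injective Γ(Y, V) Y.functionField ?_, fun s => ?_⟩
    · have h' := congrArg (toK hg hne) h
      rw [toK_app, toK_app] at h'
      exact h'
    · obtain ⟨p, hm, hp⟩ := isIntegral_image (f.isIntegral_app V hV) (toK hg hne) s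
      have hint : IsIntegral Γ(Y, V) (toK hg hne s : Y.functionField) := ⟨p, hm, by
        rw [← hp]
        congr 1
        exact RingHom.ext fun a => (toK_app hg hne a).symm⟩
      obtain ⟨a, ha⟩ := IsIntegrallyClosed.isIntegral_iff.1 hint
      refine ⟨a, hinj ?_⟩
      rw [toK_app]
      exact ha
  haveI : IsAffine V.toScheme := hV
  show MorphismProperty.isomorphisms Scheme (f ∣_ V)
  rw [HasAffineProperty.iff_of_isAffine (P := MorphismProperty.isomorphisms Scheme)]
  refine ⟨hV.preimage f, ?_⟩
  rw [morphismRestrict_appTop]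
  have key : ∀ W : Y.Opens, W = V → IsIso (f.app W) := by
    rintro _ rfl
    exact (ConcreteCategory.isIso_iff_bijective _).2 hbij
  refine @IsIso.comp_isIso' _ _ _ _ _ _ _ ?_ ?_
  · exact key _ (Scheme.Opens.ι_image_top V)
  · exact Functor.map_isIso _ _

variable {k : Type u} [Field k]

/-- A normal integral curve is an open subscheme of a normal integral proper curve. -/
theorem exists_completion_integral {C : Scheme.{u}} [IsIntegral C] (p : C ⟶ Spec (CommRingCat.of k))
    [LocallyOfFiniteType p] [QuasiCompact p] [IsSeparated p]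
    (hX : ∀ x : C, IsClosed ({x} : Set C) → ringKrullDim (C.presheaf.stalk x) = 1) (hN : Pi1.IsNormalScheme C) :
    ∃ (Y : Scheme.{u}) (_ : IsIntegral Y) (q : Y ⟶ Spec (CommRingCat.of k)) (j : C ⟶ Y), IsProper q ∧
      IsOpenImmersion j ∧ j ≫ q = p ∧ Pi1.IsNormalScheme Y ∧
      ∀ y : Y, IsClosed ({y} : Set Y) → ringKrullDim (Y.presheaf.stalk y) = 1 := by
  obtain ⟨U, hU, hξ, -⟩ := exists_isAffineOpen_mem_and_subset (U := (⊤ : C.Opens)) (x := genericPoint C) trivial
  haveI : Nonempty U := ⟨⟨_, hξ⟩⟩
  haveI : IsDomain Γ(C, U) := IsIntegral.component_integral _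
  letI : Algebra k Γ(C, U) := ((Scheme.ΓSpecIso (CommRingCat.of k)).inv ≫ p.appLE ⊤ U le_top).hom.toAlgebra
  haveI : Algebra.FiniteType k Γ(C, U) := by
    show ((Scheme.ΓSpecIso (CommRingCat.of k)).inv ≫ p.appLE ⊤ U le_top).hom.FiniteType
    rw [CommRingCat.hom_comp]
    exact RingHom.FiniteType.comp (p.finiteType_appLE (isAffineOpen_top _) hU _)
      (RingHom.FiniteType.of_surjective _ (Scheme.ΓSpecIso (CommRingCat.of k)).symm.commRingCatIsoToRingEquiv.surjective)
  obtain ⟨Y, hY, q₀, j₀, hq, hj, hjq⟩ := exists_proper_compactification k Γ(C, U)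
  have hjp : hU.isoSpec.hom ≫ j₀ ≫ q₀ = U.ι ≫ p := by
    rw [hjq, ← hU.isoSpec_hom_fromSpec, Category.assoc]
    congr 1
    rw [← (isAffineOpen_top (Spec (CommRingCat.of k))).SpecMap_appLE_fromSpec p hU le_top, IsAffineOpen.fromSpec_top,
      Scheme.isoSpec_Spec_inv, ← Spec.map_comp]
    rfl
  haveI : QuasiCompact (Y.fromSpecStalk (genericPoint Y)) := inferInstance
  haveI : QuasiSeparated (Y.fromSpecStalk (genericPoint Y)) := inferInstance
  let g := Y.fromSpecStalk (genericPoint Y)
  have hg : g = Spec.map (CommRingCat.ofHom (RingHom.id Y.functionField)) ≫ g := by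
    erw [Spec.map_id, Category.id_comp]
  obtain ⟨hI, hN'⟩ := isIntegral_and_normal (g := g) hg
  haveI : IsFinite g.fromNormalization := isFinite_fromNormalization (g := g) hg q₀ (RingHom.Finite.id _)
  let q : g.normalization ⟶ Spec (CommRingCat.of k) := g.fromNormalization ≫ q₀
  let V := j₀.opensRange
  have hVne : (V : Set Y).Nonempty := Set.range_nonempty _
  have hV : IsAffineOpen V := isAffineOpen_opensRange j₀
  haveI : IsIntegrallyClosed Γ(C, U) :=
    VarDim.isIntegrallyClosed_sections (fun x => (hN x).2) U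
  haveI : IsIntegrallyClosed Γ(Y, V) := by
    let e : Γ(Y, V) ≅ Γ(C, U) :=
      Y.presheaf.mapIso (eqToIso (show j₀ ''ᵁ ⊤ = V from j₀.image_top_eq_opensRange)).op ≪≫ j₀.appIso ⊤ ≪≫
        Scheme.ΓSpecIso _
    haveI : Nonempty V := ⟨⟨_, generic_mem hVne⟩⟩
    haveI : IsDomain Γ(Y, V) := IsIntegral.component_integral _
    exact IsIntegrallyClosed.of_equiv e.symm.commRingCatIsoToRingEquiv
  haveI := isIso_morphismRestrict_fromNormalization V hV hVne
  let jU : U.toScheme ⟶ g.normalization :=
    hU.isoSpec.hom ≫ j₀.isoOpensRange.hom ≫ inv (g.fromNormalization ∣_ V) ≫ (g.fromNormalization ⁻¹ᵁ V).ι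
  have hjU : jU ≫ q = U.ι ≫ p := by
    rw [← hjp]
    simp only [jU, q, Category.assoc]
    congr 1
    rw [← morphismRestrict_ι_assoc, IsIso.inv_hom_id_assoc, ← Category.assoc, Scheme.Hom.isoOpensRange_hom_ι]
  haveI : IsOpenImmersion jU := inferInstance
  have hUd : Dense (U : Set C) := U.isOpen.dense ⟨_, hξ⟩
  haveI : IsProper q := inferInstanceAs (IsProper (_ ≫ _))
  obtain ⟨j, ⟨hjι, hjp'⟩, -⟩ := DVRVal.exists_extend_curve p hX hN q p U hUd jU hjU
  have hsdim : VarDim.sdim q (genericPoint g.normalization) = 1 := by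
    haveI : Nonempty U.toScheme := ⟨⟨_, hξ⟩⟩
    haveI : IrreducibleSpace U.toScheme := inferInstance
    have h1 : jU (genericPoint U.toScheme) = genericPoint g.normalization := genericPoint_eq_of_isOpenImmersion jU
    have h2 : U.ι (genericPoint U.toScheme) = genericPoint C := genericPoint_eq_of_isOpenImmersion U.ι
    rw [← h1, ← VarDim.sdim_comp_of_surjective q jU, ← (sdim_genericPoint p hX), ← h2,
      ← VarDim.sdim_comp_of_surjective p U.ι]
    simp only [hjU]
  have hdim := (curve_iff_sdim_genericPoint q).2 hsdim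
  refine ⟨g.normalization, hI, q, j, inferInstance, ?_, hjp', hN', hdim⟩
  have hgen : j (genericPoint C) = genericPoint g.normalization := by
    haveI : Nonempty U.toScheme := ⟨⟨_, hξ⟩⟩
    haveI : IrreducibleSpace U.toScheme := inferInstance
    rw [← genericPoint_eq_of_isOpenImmersion U.ι, ← Scheme.Hom.comp_apply, hjι]
    exact genericPoint_eq_of_isOpenImmersion jU
  haveI : LocallyOfFiniteType (j ≫ q) := by rw [hjp']; infer_instance
  haveI : LocallyOfFiniteType j := locallyOfFiniteType_of_comp j q
  haveI : IsSeparated (j ≫ q) := by rw [hjp']; infer_instance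
  haveI : IsSeparated j := IsSeparated.of_comp j q
  haveI : QuasiCompact (j ≫ q) := by rw [hjp']; infer_instance
  haveI : QuasiCompact j := QuasiCompact.of_comp j q
  haveI : LocallyQuasiFinite j := locallyQuasiFinite_iff_finite_preimage_singleton.2
    fun y => finite_preimage p q hX hdim j hgen y
  haveI : IsOpenImmersion j.toNormalization := inferInstance
  haveI : IsIntegral j.normalization := inferInstance
  let W := jU.opensRange
  have hWd : Dense (W : Set g.normalization) := W.isOpen.dense
    ⟨_, ⟨(⟨_, hξ⟩ : U.toScheme), rfl⟩⟩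
  haveI : IsIso j.fromNormalization := Groth.Agent.S2347.result hN' j.fromNormalization W hWd
    (jU.isoOpensRange.inv ≫ U.ι ≫ j.toNormalization) (by
      simp only [Category.assoc, Scheme.Hom.toNormalization_fromNormalization, hjι]
      rw [Scheme.Hom.isoOpensRange_inv_comp])
  rw [← j.toNormalization_fromNormalization]
  infer_instance

end Groth.Agent.CurveNF
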