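import Groth.Prelude.Def_Pi1
import Groth.Agent.Lib.H12.DimZero
import Groth.Agent.Lib.IntClosFin.Main
import Mathlib.AlgebraicGeometry.Normalization
import Mathlib.AlgebraicGeometry.FunctionField
import Mathlib.AlgebraicGeometry.Morphisms.Finite
import Mathlib.RingTheory.Localization.Integral

/-!
The normalization of an integral scheme in a field extension of its function field:
it is integral, normal, has the expected function field, and it is finite over the
base for schemes locally of finite type over a field and finite extensions.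
-/

universe u

open CategoryTheory AlgebraicGeometry IsLocalRing

namespace Groth.Agent.CurveNF

variable {X : Scheme.{u}} [IsIntegral X] {K : Type u} [Field K] {φ : X.functionField →+* K}
  {g : Spec (CommRingCat.of K) ⟶ X}

theorem isIntegral_image {A R K : Type u} [CommRing A] [CommRing R] [CommRing K] {α : A →+* R} (hα : α.IsIntegral)
    (ι : R →+* K) (r : R) : (ι.comp α).IsIntegralElem (ι r) := by
  obtain ⟨p, hm, hp⟩ := hα r
  exact ⟨p, hm, by rw [← Polynomial.hom_eval₂, hp, map_zero]⟩

theorem isIntegrallyClosed_of_embedding {A R K : Type u} [CommRing A] [CommRing R] [IsDomain R] [Field K]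
    (α : A →+* R) (hα : α.IsIntegral) (ι : R →+* K) (hinj : Function.Injective ι)
    (h : ∀ y : K, (ι.comp α).IsIntegralElem y → ∃ s, ι s = y) : IsIntegrallyClosed R := by
  letI : Algebra A R := α.toAlgebra
  letI : Algebra R K := ι.toAlgebra
  letI : Algebra A K := (ι.comp α).toAlgebra
  haveI : IsScalarTower A R K := IsScalarTower.of_algebraMap_eq fun _ => rfl
  haveI : Algebra.IsIntegral A R := ⟨hα⟩
  rw [isIntegrallyClosed_iff (FractionRing R)]
  intro x hx
  let j : FractionRing R →+* K := IsFractionRing.lift hinj
  have hj : ∀ r, j (algebraMap R (FractionRing R) r) = ι r := fun r => IsFractionRing.lift_algebraMap hinj r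
  have h1 : IsIntegral R (j x) := by
    obtain ⟨p, hm, hp⟩ := hx
    refine ⟨p, hm, ?_⟩
    have := congrArg j hp
    rw [map_zero, Polynomial.hom_eval₂] at this
    rw [← this]
    congr 1
    exact RingHom.ext fun r => (hj r).symm
  obtain ⟨s, hs⟩ := h (j x) (isIntegral_trans (R := A) _ h1)
  exact ⟨s, j.injective ((hj s).trans hs)⟩

theorem isLocalHom_of_field (φ : X.functionField →+* K) : IsLocalHom φ :=
  ⟨fun a ha => isUnit_iff_ne_zero.2 fun h => by subst h; rw [map_zero] at ha; exact not_isUnit_zero ha⟩

variable (hg : g = Spec.map (CommRingCat.ofHom φ) ≫ X.fromSpecStalk (genericPoint X))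

include hg in
theorem apply_closedPoint : g (closedPoint K) = genericPoint X := by
  haveI := isLocalHom_of_field φ
  subst hg
  rw [Scheme.Hom.comp_apply]
  erw [Spec_closedPoint]
  exact Scheme.fromSpecStalk_closedPoint

theorem generic_mem {V : X.Opens} (hV : (V : Set X).Nonempty) : genericPoint X ∈ V :=
  ((genericPoint_spec X).mem_open_set_iff V.isOpen).mpr (by simpa using hV)

include hg in
theorem closedPoint_mem {V : X.Opens} (hV : (V : Set X).Nonempty) : g (closedPoint K) ∈ V := by
  rw [apply_closedPoint hg]; exact generic_mem hV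

include hg in
/-- Sections of `X` restricted to the point `Spec K` are given by the embedding of the function
field. -/
theorem germ_stalkClosedPointTo' {V : X.Opens} (hV : (V : Set X).Nonempty) (a : Γ(X, V)) :
    (Scheme.stalkClosedPointTo g).hom (X.presheaf.germ V _ (closedPoint_mem hg hV) a) =
      φ (X.presheaf.germ V (genericPoint X) (generic_mem hV) a) := by
  haveI := isLocalHom_of_field φ
  haveI : IsLocalHom (CommRingCat.ofHom φ).hom := this
  subst hg
  exact ConcreteCategory.congr_hom
    (Scheme.germ_stalkClosedPointTo_Spec_fromSpecStalk (CommRingCat.ofHom φ) V (closedPoint_mem rfl hV)) a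

variable [QuasiCompact g] [QuasiSeparated g]

include hg in
theorem toNormalization_mem {V : X.Opens} (hV : (V : Set X).Nonempty) :
    g.toNormalization (closedPoint K) ∈ g.fromNormalization ⁻¹ᵁ V := by
  show g.fromNormalization (g.toNormalization (closedPoint K)) ∈ V
  rw [← Scheme.Hom.comp_apply, Scheme.Hom.toNormalization_fromNormalization]
  exact closedPoint_mem hg hV

/-- Sections of the normalization inside `K`. -/
noncomputable def toK {V : X.Opens} (hV : (V : Set X).Nonempty) :
    Γ(g.normalization, g.fromNormalization ⁻¹ᵁ V) →+* K :=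
  (g.normalization.presheaf.germ _ _ (toNormalization_mem hg hV) ≫
    Scheme.stalkClosedPointTo g.toNormalization).hom

theorem toK_app {V : X.Opens} (hV : (V : Set X).Nonempty) (a : Γ(X, V)) :
    toK hg hV (g.fromNormalization.app V a) = φ (X.presheaf.germ V (genericPoint X) (generic_mem hV) a) := by
  rw [← germ_stalkClosedPointTo' hg hV a]
  have h : g.fromNormalization.app V ≫ g.normalization.presheaf.germ _ _ (toNormalization_mem hg hV) ≫
      Scheme.stalkClosedPointTo g.toNormalization =
      X.presheaf.germ V _ (closedPoint_mem hg hV) ≫ Scheme.stalkClosedPointTo g := by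
    rw [Scheme.germ_stalkClosedPointTo, Scheme.germ_stalkClosedPointTo, ← Category.assoc]
    simp only [Iso.trans_hom, ← Category.assoc]
    congr 1
    simp only [Scheme.Hom.app_eq_appLE, Functor.mapIso_hom, Scheme.Hom.appLE_comp_appLE, Scheme.Hom.appLE_map]
    congr 1
    exact g.toNormalization_fromNormalization
  exact ConcreteCategory.congr_hom h a

theorem toK_injective_and_range {V : X.Opens} (hV : (V : Set X).Nonempty) (hA : IsAffineOpen V) :
    Function.Injective (toK hg hV) ∧ ∀ y : K,
      (φ.comp (X.presheaf.germ V (genericPoint X) (generic_mem hV)).hom).IsIntegralElem y →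
        ∃ s, toK hg hV s = y := by
  letI := (g.app V).hom.toAlgebra
  let e : Γ(Spec (CommRingCat.of K), g ⁻¹ᵁ V) ≅ CommRingCat.of K :=
    (Spec (CommRingCat.of K)).presheaf.mapIso
      (eqToIso (Scheme.preimage_eq_top_of_closedPoint_mem g (closedPoint_mem hg hV)).symm).op ≪≫
        Scheme.ΓSpecIso (CommRingCat.of K)
  have hφe : ∀ a : Γ(X, V), e.hom (g.app V a) = φ (X.presheaf.germ V (genericPoint X) (generic_mem hV) a) := by
    intro a
    rw [← germ_stalkClosedPointTo' hg hV a]
    exact (ConcreteCategory.congr_hom (Scheme.germ_stalkClosedPointTo g V (closedPoint_mem hg hV)) a).symm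
  have hK : ∀ s, toK hg hV s = e.hom ((g.normalizationObjIso hA).hom s).1 := by
    intro s
    have h : g.normalization.presheaf.germ _ _ (toNormalization_mem hg hV) ≫
        Scheme.stalkClosedPointTo g.toNormalization =
        (g.normalizationObjIso hA).hom ≫ CommRingCat.ofHom (integralClosure Γ(X, V) Γ(Spec (CommRingCat.of K), g ⁻¹ᵁ V)).val.toRingHom ≫ e.hom := by
      rw [Scheme.germ_stalkClosedPointTo, ← Category.assoc (g.normalizationObjIso hA).hom,
        g.normalizationObjIso_hom_val hA]
      simp only [e, Iso.trans_hom, Functor.mapIso_hom, ← Category.assoc]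
      congr 1
    exact ConcreteCategory.congr_hom h s
  refine ⟨fun a b h => ?_, fun y hy => ?_⟩
  · rw [hK, hK] at h
    exact (ConcreteCategory.bijective_of_isIso (g.normalizationObjIso hA).hom).1
      (Subtype.ext ((ConcreteCategory.bijective_of_isIso e.hom).1 h))
  · obtain ⟨p, hm, hp⟩ := hy
    have hint : IsIntegral Γ(X, V) (e.inv y) := by
      refine ⟨p, hm, (ConcreteCategory.bijective_of_isIso e.hom).1 ?_⟩
      have he : e.hom (e.inv y) = y := ConcreteCategory.congr_hom e.inv_hom_id y
      rw [map_zero, Polynomial.hom_eval₂, he, ← hp]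
      congr 1
      exact RingHom.ext hφe
    refine ⟨(g.normalizationObjIso hA).inv ⟨_, hint⟩, ?_⟩
    rw [hK]
    erw [ConcreteCategory.congr_hom (g.normalizationObjIso hA).inv_hom_id]
    exact ConcreteCategory.congr_hom e.inv_hom_id y

theorem toK_injective {V : X.Opens} (hV : (V : Set X).Nonempty) (hA : IsAffineOpen V) :
    Function.Injective (toK hg hV) := (toK_injective_and_range hg hV hA).1

include hg in
theorem isIntegrallyClosed_sections {V : X.Opens} (hV : (V : Set X).Nonempty) (hA : IsAffineOpen V) :
    IsIntegrallyClosed Γ(g.normalization, g.fromNormalization ⁻¹ᵁ V) := by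
  obtain ⟨hinj, hrange⟩ := toK_injective_and_range hg hV hA
  haveI : Nonempty (g.fromNormalization ⁻¹ᵁ V) := ⟨⟨_, toNormalization_mem hg hV⟩⟩
  haveI : IsDomain Γ(g.normalization, g.fromNormalization ⁻¹ᵁ V) := IsIntegral.component_integral _
  refine isIntegrallyClosed_of_embedding (g.fromNormalization.app V).hom (g.fromNormalization.isIntegral_app V hA)
    (toK hg hV) hinj fun y hy => hrange y ?_
  obtain ⟨p, hm, hp⟩ := hy
  refine ⟨p, hm, ?_⟩
  rw [← hp]
  congr 1
  exact RingHom.ext fun a => (toK_app hg hV a).symm

include hg in
theorem isIntegral_and_normal : IsIntegral g.normalization ∧ Pi1.IsNormalScheme g.normalization := by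
  refine ⟨inferInstance, fun x => ⟨inferInstance, ?_⟩⟩
  obtain ⟨V, hA, hx, -⟩ := exists_isAffineOpen_mem_and_subset (U := (⊤ : X.Opens)) (x := g.fromNormalization x) trivial
  have hV : (V : Set X).Nonempty := ⟨_, hx⟩
  haveI := isIntegrallyClosed_sections hg hV hA
  have hU : IsAffineOpen (g.fromNormalization ⁻¹ᵁ V) := hA.preimage _
  haveI : Nonempty (g.fromNormalization ⁻¹ᵁ V) := ⟨⟨_, toNormalization_mem hg hV⟩⟩
  haveI : IsDomain Γ(g.normalization, g.fromNormalization ⁻¹ᵁ V) := IsIntegral.component_integral _
  letI := TopCat.Presheaf.algebra_section_stalk g.normalization.presheaf (⟨x, hx⟩ : g.fromNormalization ⁻¹ᵁ V)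
  haveI := hU.isLocalization_stalk ⟨x, hx⟩
  exact isIntegrallyClosed_of_isLocalization _ (hU.primeIdealOf ⟨x, hx⟩).asIdeal.primeCompl
    (Ideal.primeCompl_le_nonZeroDivisors _)

omit [QuasiSeparated g] in
theorem subsingleton_specField (K : Type u) [Field K] : Subsingleton (Spec (CommRingCat.of K)) :=
  inferInstanceAs (Subsingleton (PrimeSpectrum K))

theorem toNormalization_closedPoint : g.toNormalization (closedPoint K) = genericPoint g.normalization := by
  refine IsGenericPoint.eq ?_ (genericPoint_spec _)
  haveI := subsingleton_specField K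
  have h := g.toNormalization.denseRange.closure_range
  rwa [show Set.range g.toNormalization = {g.toNormalization (closedPoint K)} from
    Set.ext fun z => ⟨by rintro ⟨w, rfl⟩; rw [Subsingleton.elim w (closedPoint K)]; rfl,
      fun hz => ⟨closedPoint K, hz.symm⟩⟩] at h

include hg in
theorem fromNormalization_genericPoint :
    g.fromNormalization (genericPoint g.normalization) = genericPoint X := by
  rw [← toNormalization_closedPoint, ← Scheme.Hom.comp_apply, Scheme.Hom.toNormalization_fromNormalization,
    apply_closedPoint hg]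

include hg in
theorem preimage_genericPoint :
    g.fromNormalization ⁻¹' {genericPoint X} = {genericPoint g.normalization} := by
  ext x
  simp only [Set.mem_preimage, Set.mem_singleton_iff]
  refine ⟨fun h => (H12.eq_of_specializes_of_isIntegralHom g.fromNormalization (genericPoint_specializes x) ?_).symm,
    fun h => h ▸ fromNormalization_genericPoint hg⟩
  rw [fromNormalization_genericPoint hg, h]

include hg in
theorem surjective_fromNormalization : Surjective g.fromNormalization := by
  refine ⟨Set.range_eq_univ.1 (Set.eq_univ_of_univ_subset ?_)⟩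
  rw [← (genericPoint_spec X).def]
  exact closure_minimal (Set.singleton_subset_iff.2 ⟨_, fromNormalization_genericPoint hg⟩)
      g.fromNormalization.isClosedMap.isClosed_range

theorem stalkClosedPointTo_injective :
    Function.Injective (Scheme.stalkClosedPointTo g.toNormalization).hom := by
  have hfield : IsField (g.normalization.presheaf.stalk (g.toNormalization (closedPoint K))) := by
    rw [toNormalization_closedPoint]; exact Field.toIsField g.normalization.functionField
  letI := hfield.toField
  exact RingHom.injective _

include hg in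
theorem range_stalkClosedPointTo :
    Set.range (Scheme.stalkClosedPointTo g.toNormalization).hom = {y : K | φ.IsIntegralElem y} := by
  obtain ⟨V, hA, hξ, -⟩ := exists_isAffineOpen_mem_and_subset (U := (⊤ : X.Opens)) (x := genericPoint X) trivial
  have hV : (V : Set X).Nonempty := ⟨_, hξ⟩
  obtain ⟨hinj, hrange⟩ := toK_injective_and_range hg hV hA
  letI : Algebra X.functionField K := φ.toAlgebra
  letI : Algebra Γ(X, V) K := (φ.comp (X.presheaf.germ V (genericPoint X) (generic_mem hV)).hom).toAlgebra
  haveI : Nonempty V := ⟨⟨_, hξ⟩⟩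
  haveI : IsScalarTower Γ(X, V) X.functionField K := IsScalarTower.of_algebraMap_eq fun _ => rfl
  haveI := functionField_isFractionRing_of_isAffineOpen X V hA
  have hint : ∀ s, IsIntegral X.functionField (toK hg hV s) := fun s => by
    obtain ⟨p, hm, hp⟩ := g.fromNormalization.isIntegral_app V hA s
    refine IsIntegral.tower_top (R := Γ(X, V)) ⟨p, hm, ?_⟩
    have h := congrArg (toK hg hV) hp
    rw [map_zero, Polynomial.hom_eval₂] at h
    rw [← h]
    congr 1
    exact RingHom.ext fun a => (toK_app hg hV a).symm
  ext y
  constructor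
  · rintro ⟨z, rfl⟩
    have hU : IsAffineOpen (g.fromNormalization ⁻¹ᵁ V) := hA.preimage _
    letI := TopCat.Presheaf.algebra_section_stalk g.normalization.presheaf
      (⟨_, toNormalization_mem hg hV⟩ : g.fromNormalization ⁻¹ᵁ V)
    haveI := hU.isLocalization_stalk ⟨_, toNormalization_mem hg hV⟩
    obtain ⟨⟨a, s⟩, hz⟩ := IsLocalization.surj (hU.primeIdealOf ⟨_, toNormalization_mem hg hV⟩).asIdeal.primeCompl z
    have h := congrArg (Scheme.stalkClosedPointTo g.toNormalization).hom hz
    rw [map_mul] at h
    change _ * toK hg hV (s : Γ(g.normalization, g.fromNormalization ⁻¹ᵁ V)) = toK hg hV a at h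
    have hs : toK hg hV (s : Γ(g.normalization, g.fromNormalization ⁻¹ᵁ V)) ≠ 0 :=
      ((IsLocalization.map_units (g.normalization.presheaf.stalk _) s).map
        (Scheme.stalkClosedPointTo g.toNormalization).hom).ne_zero
    rw [← eq_div_iff hs] at h
    show IsIntegral X.functionField _
    rw [h, div_eq_mul_inv]
    exact (hint _).mul ((hint _).inv)
  · intro hy
    obtain ⟨m, hm⟩ := IsIntegral.exists_multiple_integral_of_isLocalization
      (nonZeroDivisors Γ(X, V)) y (show IsIntegral X.functionField y from hy)
    obtain ⟨s, hs⟩ := hrange (m • y) hm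
    have hm0 : φ (X.presheaf.germ V (genericPoint X) (generic_mem hV) (m : Γ(X, V))) ≠ 0 :=
      ((IsLocalization.map_units X.functionField m).map φ).ne_zero
    have hfield : IsField (g.normalization.presheaf.stalk (g.toNormalization (closedPoint K))) := by
      rw [toNormalization_closedPoint]; exact Field.toIsField g.normalization.functionField
    let G := g.normalization.presheaf.germ (g.fromNormalization ⁻¹ᵁ V) _ (toNormalization_mem hg hV)
    obtain ⟨b, hb⟩ := hfield.mul_inv_cancel (a := G (g.fromNormalization.app V (m : Γ(X, V)))) (by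
      intro h0
      apply hm0
      rw [← toK_app hg hV]
      show (Scheme.stalkClosedPointTo g.toNormalization).hom (G _) = 0
      rw [h0, map_zero])
    refine ⟨G s * b, ?_⟩
    have hb' := congrArg (Scheme.stalkClosedPointTo g.toNormalization).hom hb
    rw [map_mul, map_one] at hb'
    rw [map_mul]
    change toK hg hV s * _ = y
    change toK hg hV (g.fromNormalization.app V (m : Γ(X, V))) * _ = 1 at hb'
    rw [toK_app hg hV] at hb'
    rw [hs]
    calc (m • y) * _ = y * (φ (X.presheaf.germ V (genericPoint X) (generic_mem hV) (m : Γ(X, V))) *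
          (Scheme.stalkClosedPointTo g.toNormalization).hom b) := by
            rw [Submonoid.smul_def, Algebra.smul_def]; show (φ _ * y) * _ = _; ring
      _ = y := by rw [hb', mul_one]

include hg in
/-- The normalization in a finite extension of an integral scheme locally of finite type over a
field is finite. -/
theorem isFinite_fromNormalization {k : Type u} [Field k] (f : X ⟶ Spec (CommRingCat.of k))
    [LocallyOfFiniteType f] (hφ : φ.Finite) : IsFinite g.fromNormalization := by
  refine { finite_app := fun V hA => ?_ }
  rcases Set.eq_empty_or_nonempty (V : Set X) with hV | hV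
  · have hbot : g.fromNormalization ⁻¹ᵁ V = ⊥ := by
      ext x
      simp only [TopologicalSpace.Opens.coe_bot, Set.mem_empty_iff_false, iff_false]
      intro hx
      exact (Set.eq_empty_iff_forall_notMem.1 hV) (g.fromNormalization x) hx
    haveI : Subsingleton Γ(g.normalization, g.fromNormalization ⁻¹ᵁ V) := by rw [hbot]; infer_instance
    exact RingHom.Finite.of_surjective _ fun b => ⟨0, Subsingleton.elim _ _⟩
  obtain ⟨hinj, hrange⟩ := toK_injective_and_range hg hV hA
  letI : Algebra X.functionField K := φ.toAlgebra
  haveI : FiniteDimensional X.functionField K := hφ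
  letI : Algebra Γ(X, V) K := (φ.comp (X.presheaf.germ V (genericPoint X) (generic_mem hV)).hom).toAlgebra
  haveI : Nonempty V := ⟨⟨_, generic_mem hV⟩⟩
  haveI : IsScalarTower Γ(X, V) X.functionField K := IsScalarTower.of_algebraMap_eq fun _ => rfl
  haveI := functionField_isFractionRing_of_isAffineOpen X V hA
  letI : Algebra k Γ(X, V) :=
    ((Scheme.ΓSpecIso (CommRingCat.of k)).inv ≫ f.appLE ⊤ V le_top).hom.toAlgebra
  haveI : Algebra.FiniteType k Γ(X, V) := by
    show ((Scheme.ΓSpecIso (CommRingCat.of k)).inv ≫ f.appLE ⊤ V le_top).hom.FiniteType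
    rw [CommRingCat.hom_comp]
    exact RingHom.FiniteType.comp (f.finiteType_appLE (isAffineOpen_top _) hA _)
      (RingHom.FiniteType.of_surjective _ (Scheme.ΓSpecIso (CommRingCat.of k)).symm.commRingCatIsoToRingEquiv.surjective)
  haveI : Module.Finite Γ(X, V) (integralClosure Γ(X, V) K) :=
    IntClosFin.finite_integralClosure k Γ(X, V) X.functionField K
  letI : Algebra Γ(X, V) Γ(g.normalization, g.fromNormalization ⁻¹ᵁ V) :=
    (g.fromNormalization.app V).hom.toAlgebra
  choose σ hσ using fun c : integralClosure Γ(X, V) K => hrange c.1 c.2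
  let L : integralClosure Γ(X, V) K →ₗ[Γ(X, V)] Γ(g.normalization, g.fromNormalization ⁻¹ᵁ V) :=
    { toFun := σ
      map_add' := fun a b => hinj (by rw [map_add, hσ, hσ, hσ]; rfl)
      map_smul' := fun a b => hinj (by
        rw [hσ, RingHom.id_apply, Algebra.smul_def, Algebra.smul_def, map_mul, hσ]
        exact congrArg (· * (b : K)) (toK_app hg hV a).symm) }
  refine Module.Finite.of_surjective L fun s => ?_
  have hint : IsIntegral Γ(X, V) (toK hg hV s) := by
    obtain ⟨p, hm, hp⟩ := g.fromNormalization.isIntegral_app V hA s
    refine ⟨p, hm, ?_⟩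
    have h := congrArg (toK hg hV) hp
    rw [map_zero, Polynomial.hom_eval₂] at h
    rw [← h]
    congr 1
    exact RingHom.ext fun a => (toK_app hg hV a).symm
  exact ⟨⟨_, hint⟩, hinj (hσ _)⟩

end Groth.Agent.CurveNF
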