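import Groth.Agent.Lib.VarDim.Scheme
import Groth.Agent.Lib.DVRVal.Curve
import Mathlib.AlgebraicGeometry.Properties

/-!
Curves over a field: the local rings at closed points are one dimensional iff the residue fields of
the maximal points have transcendence degree one.
-/

universe u

namespace Groth.Agent.CurveNF

open CategoryTheory AlgebraicGeometry Order

variable {k : Type u} [Field k] {X : Scheme.{u}} (f : X ⟶ Spec (CommRingCat.of k)) [LocallyOfFiniteType f]

theorem ringKrullDim_stalk_eq_one_iff (x : X) :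
    ringKrullDim (X.presheaf.stalk x) = 1 ↔ coheight x = 1 := by
  rw [ringKrullDim_stalk_eq_coheight, ← WithBot.coe_one, WithBot.coe_inj]

include f in
/-- In a curve, a point which is neither closed nor maximal does not exist. -/
theorem sdim_le_one (hX : ∀ x : X, IsClosed ({x} : Set X) → ringKrullDim (X.presheaf.stalk x) = 1) (x : X) :
    VarDim.sdim f x ≤ 1 := by
  have h : height x ≤ ((1 : ℕ) : ℕ∞) := by
    refine height_le fun l hl => ?_
    by_contra hlt
    have h2 : 2 ≤ l.length := by
      rw [Nat.cast_le] at hlt; omega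
    obtain ⟨c, hc, hlc⟩ := DVRVal.exists_closed_specializes f (l ⟨0, by omega⟩)
    have hc1 := (ringKrullDim_stalk_eq_one_iff c).1 (hX c hc)
    have a1 : c < l ⟨1, by omega⟩ := lt_of_le_of_lt (show c ≤ l ⟨0, by omega⟩ from hlc)
      (l.strictMono (show (⟨0, by omega⟩ : Fin (l.length + 1)) < ⟨1, by omega⟩ from Nat.zero_lt_one))
    have a2 : l ⟨1, by omega⟩ < l ⟨2, by omega⟩ :=
      l.strictMono (show (⟨1, by omega⟩ : Fin (l.length + 1)) < ⟨2, by omega⟩ from Nat.one_lt_two)
    have b1 := coheight_add_one_le a2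
    have b2 := coheight_add_one_le a1
    rw [hc1] at b2
    have b3 : (1 : ℕ∞) + 1 ≤ 1 := (add_le_add_left (le_add_self.trans b1) 1).trans b2
    exact absurd b3 (by decide)
  rw [VarDim.height_eq_sdim f] at h
  exact_mod_cast h

include f in
theorem sdim_eq_one_of_maximal (hX : ∀ x : X, IsClosed ({x} : Set X) → ringKrullDim (X.presheaf.stalk x) = 1)
    {g : X} (hg : ∀ x, x ⤳ g → x = g) : VarDim.sdim f g = 1 := by
  refine le_antisymm (sdim_le_one f hX g) (Nat.one_le_iff_ne_zero.2 fun h0 => ?_)
  have hc := (VarDim.sdim_eq_zero_iff_isClosed f g).1 h0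
  have h1 := (ringKrullDim_stalk_eq_one_iff g).1 (hX g hc)
  rw [coheight_eq_zero.2 (fun b hb => le_of_eq (hg b hb))] at h1
  exact zero_ne_one h1

include f in
theorem coheight_eq_one (h1 : ∀ x : X, VarDim.sdim f x ≤ 1)
    (hmax : ∀ x : X, VarDim.sdim f x = 0 → ∃ g, g ⤳ x ∧ g ≠ x) {x : X} (hx : IsClosed ({x} : Set X)) :
    coheight x = 1 := by
  obtain ⟨g, hg, hne⟩ := hmax x ((VarDim.sdim_eq_zero_iff_isClosed f x).2 hx)
  refine le_antisymm ?_ ?_
  · refine coheight_le fun l hl => ?_
    have h := (length_le_height_last (p := l)).trans_eq (VarDim.height_eq_sdim f l.last)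
    exact h.trans (by exact_mod_cast h1 _)
  · exact Order.one_le_iff_pos.2 (pos_of_ne_zero fun h0 =>
      (coheight_eq_zero.1 h0).not_lt (VarDim.lt_of_specializes_ne hg (Ne.symm hne)))

include f in
/-- Maximal points of transcendence degree one: closed points have one dimensional local rings. -/
theorem ringKrullDim_stalk_eq_one_of_maximal (hmax : ∀ g : X, (∀ x, x ⤳ g → x = g) → VarDim.sdim f g = 1)
    (hex : ∀ x : X, ∃ g : X, g ⤳ x ∧ ∀ y : X, y ⤳ g → y = g)
    {x : X} (hx : IsClosed ({x} : Set X)) : ringKrullDim (X.presheaf.stalk x) = 1 := by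
  rw [ringKrullDim_stalk_eq_one_iff]
  refine coheight_eq_one f (fun y => ?_) (fun y hy => ?_) hx
  · obtain ⟨g, hg, hgm⟩ := hex y
    rcases eq_or_ne g y with rfl | hne
    · exact (hmax _ hgm).le
    · exact (VarDim.sdim_lt_of_specializes f hg hne).le.trans (hmax g hgm).le
  · obtain ⟨g, hg, hgm⟩ := hex y
    refine ⟨g, hg, fun e => ?_⟩
    have := hmax g hgm
    rw [e, hy] at this
    exact zero_ne_one this

include f in
/-- An integral scheme locally of finite type over `k` is a curve iff its function field has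
transcendence degree one. -/
theorem curve_iff_sdim_genericPoint [IsIntegral X] :
    (∀ x : X, IsClosed ({x} : Set X) → ringKrullDim (X.presheaf.stalk x) = 1) ↔
      VarDim.sdim f (genericPoint X) = 1 := by
  have hmax : ∀ g : X, (∀ x, x ⤳ g → x = g) ↔ g = genericPoint X := fun g =>
    ⟨fun h => (h _ (genericPoint_specializes g)).symm, by
      rintro rfl x hx
      exact (hx.antisymm (genericPoint_specializes x)).eq⟩
  refine ⟨fun hX => sdim_eq_one_of_maximal f hX ((hmax _).2 rfl), fun h x hx => ?_⟩
  refine ringKrullDim_stalk_eq_one_of_maximal f (fun g hg => ?_) (fun y => ?_) hx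
  · rw [(hmax g).1 hg]; exact h
  · exact ⟨genericPoint X, genericPoint_specializes y, (hmax _).2 rfl⟩

end Groth.Agent.CurveNF
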